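import Cfsg.Agent.JankoOne.AutData

/-!
Every automorphism of J₁ is inner: a staged search inside centralisers of involutions.
-/

set_option autoImplicit false

namespace CfsgLib.JankoOne

open Cfsg

/-- element number `n` of the centraliser of the involution -/
def cElt (n : ℕ) : ↥Spor.J1 := theInvolution ^ (n / 60) * elFive (n % 60)

/-- its matrix -/
def cMat (n : ℕ) : M7 :=
  bif Nat.beq (n / 60) 0 then atM a5List (n % 60)
  else JankoOne.mul (powM (mw (eWords.getD 1 [])) (n / 60)) (atM a5List (n % 60))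

theorem rep_cElt {n : ℕ} (hn : n < 120) : Rep (cElt n : GL (Fin 7) (ZMod 11)) (cMat n) := by
  have h5 := rep_elFive (Nat.mod_lt n (by norm_num : 0 < 60))
  rw [cElt, cMat, Subgroup.coe_mul]
  cases h : Nat.beq (n / 60) 0
  · exact (((rep_gw _).pow _).mul h5)
  · rw [Nat.eq_of_beq_eq_true h, pow_zero, OneMemClass.coe_one, one_mul]
    exact h5

theorem commute_cElt (n : ℕ) : Commute theInvolution (cElt n) :=
  ((Commute.refl _).pow_right _).mul_right (commute_word commute_gen.1 commute_gen.2 _)

theorem exists_cElt {w : ↥Spor.J1} (hw : Commute theInvolution w) : ∃ n < 120, w = cElt n := by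
  obtain ⟨⟨z, σ⟩, hq⟩ : ∃ q, psi q = ⟨w, Subgroup.mem_centralizer_singleton_iff.2 hw.symm.eq⟩ :=
    ((Nat.bijective_iff_injective_and_card psi).2
      ⟨psi_injective, by rw [card_source, card_centralizer]⟩).2 _
  have hw' : phiTwo z * phiFive σ = w := congrArg Subtype.val hq
  have hl := (table_of σ).1
  by_cases hz : z = 1
  · refine ⟨permIdx σ, by omega, ?_⟩
    rw [← hw', hz, map_one, one_mul, cElt, Nat.div_eq_of_lt hl, pow_zero, one_mul,
      Nat.mod_eq_of_lt hl]
    rfl
  · refine ⟨60 + permIdx σ, by omega, ?_⟩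
    rw [← hw', show phiTwo z = theInvolution from if_neg hz, cElt,
      show (60 + permIdx σ) / 60 = 1 by omega, show (60 + permIdx σ) % 60 = permIdx σ by omega,
      pow_one]
    rfl

/-- entry of the elementary abelian group as a matrix -/
def eMat (j : ℕ) : M7 := mw (eWords.getD j [])

/-- entry of the elementary abelian group -/
def eEl (j : ℕ) : ↥Spor.J1 := gw (eWords.getD j [])

theorem rep_eEl (j : ℕ) : Rep (eEl j : GL (Fin 7) (ZMod 11)) (eMat j) := rep_gw _

theorem eEl_one : eEl 1 = theInvolution := rfl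

/-- the power of the order 7 element moving the second generator to the involution -/
def kPow : ℕ := eOrbit.getD autU 0

/-- element number `n` of the centraliser of the second generator -/
def dElt (n : ℕ) : ↥Spor.J1 := gw wS ^ (7 - kPow) * cElt n * gw wS ^ kPow

/-- its matrix -/
def dMat (n : ℕ) : M7 :=
  JankoOne.mul (JankoOne.mul (powM (mw wS) (7 - kPow)) (cMat n)) (powM (mw wS) kPow)

theorem rep_dElt {n : ℕ} (hn : n < 120) : Rep (dElt n : GL (Fin 7) (ZMod 11)) (dMat n) :=
  (((rep_gw _).pow _).mul (rep_cElt hn)).mul ((rep_gw _).pow _)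

theorem checkU_orbit : beq (JankoOne.mul (powM (mw wS) kPow) (eMat autU))
    (JankoOne.mul (eMat 1) (powM (mw wS) kPow)) = true ∧
    beq (JankoOne.mul (powM (mw wS) kPow) (powM (mw wS) (7 - kPow))) one7 = true := by
  decide +kernel

theorem exists_dElt {w : ↥Spor.J1} (hw : Commute (eEl autU) w) : ∃ n < 120, w = dElt n := by
  have hk : gw wS ^ kPow * eEl autU = theInvolution * gw wS ^ kPow :=
    Subtype.ext ((((rep_gw _).pow _).mul (rep_eEl _)).eq ((rep_eEl 1).mul ((rep_gw _).pow _))
      checkU_orbit.1)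
  have hinv : gw wS ^ kPow * gw wS ^ (7 - kPow) = 1 :=
    Subtype.ext ((((rep_gw _).pow _).mul ((rep_gw _).pow _)).eq rep_one checkU_orbit.2)
  have hi : (gw wS ^ kPow)⁻¹ = gw wS ^ (7 - kPow) := inv_eq_of_mul_eq_one_right hinv
  have ht : theInvolution = gw wS ^ kPow * eEl autU * (gw wS ^ kPow)⁻¹ := by
    rw [hk, mul_inv_cancel_right]
  obtain ⟨n, hn, e⟩ := exists_cElt (w := gw wS ^ kPow * w * (gw wS ^ kPow)⁻¹) (by
    rw [ht]
    show _ = _
    simp only [mul_assoc, inv_mul_cancel_left]
    rw [← mul_assoc (eEl autU), hw.eq, mul_assoc])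
  refine ⟨n, hn, ?_⟩
  rw [dElt, ← e, ← hi]
  group

/-- the four generators -/
def autGen : ℕ → ↥Spor.J1
  | 0 => theInvolution
  | 1 => eEl autU
  | 2 => cElt (autB.getD 0 0)
  | _ => dElt autV

/-- candidate images of the four generators -/
def autMat (b v : M7) : ℕ → M7
  | 0 => eMat 1
  | 1 => eMat autU
  | 2 => b
  | _ => v

/-- product of generators given by a word -/
def wordVal {G : Type*} [Monoid G] (f : ℕ → G) : List ℕ → G
  | [] => 1
  | a :: w => f a * wordVal f w

/-- product of matrices given by a word -/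
def wordMat (f : ℕ → M7) : List ℕ → M7
  | [] => one7
  | a :: w => JankoOne.mul (f a) (wordMat f w)

theorem rep_wordVal {f : ℕ → ↥Spor.J1} {F : ℕ → M7}
    (h : ∀ a, Rep (f a : GL (Fin 7) (ZMod 11)) (F a)) :
    ∀ w, Rep ((wordVal f w : ↥Spor.J1) : GL (Fin 7) (ZMod 11)) (wordMat F w)
  | [] => rep_one
  | a :: w => by
    rw [wordVal, Subgroup.coe_mul]
    exact (h a).mul (rep_wordVal h w)

theorem map_wordVal {G H : Type*} [Monoid G] [Monoid H] (φ : G →* H) (f : ℕ → G) :
    ∀ w, φ (wordVal f w) = wordVal (fun a => φ (f a)) w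
  | [] => map_one φ
  | a :: w => by rw [wordVal, map_mul, map_wordVal φ f w]; rfl

/-- check of the stage for the second generator -/
def checkStageU : Bool :=
  allLt 120 fun n =>
    beq (cMat n) one7 || beq (cMat n) (eMat 1) || !beq (JankoOne.mul (cMat n) (cMat n)) one7 ||
      (decide ((autConjU.getD n (0, 0)).1 < 120) &&
        beq (JankoOne.mul (cMat (autConjU.getD n (0, 0)).1) (cMat n))
          (JankoOne.mul (eMat (bif Nat.beq (autConjU.getD n (0, 0)).2 0 then autU else autU2))
            (cMat (autConjU.getD n (0, 0)).1)))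

theorem checkStageU_true : checkStageU = true := by decide +kernel

/-- check of the stage for the third generator -/
def checkStageB : Bool :=
  decide (autB.getD 0 0 < 120) && decide (autB.getD 1 0 < 120) &&
  allLt 120 fun n =>
    beq (cMat n) one7 || !beq (powM (cMat n) 3) one7 ||
    (!beq (powM (JankoOne.mul (eMat autU2) (cMat n)) 5) one7 &&
      (!beq (powM (JankoOne.mul (eMat autU) (cMat n)) 5) one7 ||
        (decide ((autConjB.getD n (0, 0)).1 < 2) && decide ((autConjB.getD n (0, 0)).2 < 8) &&
          beq (JankoOne.mul (eMat (autConjB.getD n (0, 0)).2) (cMat n))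
            (JankoOne.mul (cMat (autB.getD (autConjB.getD n (0, 0)).1 0))
              (eMat (autConjB.getD n (0, 0)).2)))))

theorem checkStageB_true : checkStageB = true := by decide +kernel

/-- check of the stage for the fourth generator -/
def checkStageV : Bool :=
  decide (autV < 120) && allLt 2 fun d => allLt 120 fun n =>
    autRels.any (fun w => !beq (wordMat (autMat (cMat (autB.getD d 0)) (dMat n)) w) one7) ||
    (Nat.beq d 0 && (beq (dMat n) (dMat autV) ||
      beq (JankoOne.mul (eMat 1) (dMat n)) (JankoOne.mul (dMat autV) (eMat 1))))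

theorem checkStageV_true : checkStageV = true := by decide +kernel

/-- check of the generators -/
def checkGen : Bool :=
  beq (powM (cMat (autB.getD 0 0)) 3) one7 &&
  beq (powM (JankoOne.mul (eMat autU) (cMat (autB.getD 0 0))) 5) one7 &&
  !beq (cMat (autB.getD 0 0)) one7 && !beq (eMat autU) one7 && !beq (eMat autU) (eMat 1) &&
  beq (JankoOne.mul (eMat 1) (eMat autU)) (JankoOne.mul (eMat autU) (eMat 1)) &&
  beq (JankoOne.mul (eMat autU) (eMat autU)) one7 &&
  (autRels.all fun w =>
    beq (wordMat (autMat (cMat (autB.getD 0 0)) (dMat autV)) w) one7) &&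
  beq (JankoOne.mul (eMat autU) (dMat autV)) (JankoOne.mul (dMat autV) (eMat autU)) &&
  beq (wordMat (autMat (cMat (autB.getD 0 0)) (dMat autV)) autWordX) X7 &&
  beq (wordMat (autMat (cMat (autB.getD 0 0)) (dMat autV)) autWordY) Y7 &&
  (allLt 8 fun e => beq (JankoOne.mul (eMat e) (eMat 1)) (JankoOne.mul (eMat 1) (eMat e)) &&
    beq (JankoOne.mul (eMat e) (eMat autU)) (JankoOne.mul (eMat autU) (eMat e)))

theorem checkGen_true : checkGen = true := by decide +kernel

theorem rep_autGen : ∀ a, Rep (autGen a : GL (Fin 7) (ZMod 11))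
    (autMat (cMat (autB.getD 0 0)) (dMat autV) a) := by
  have hb := checkStageB_true
  have hv := checkStageV_true
  simp only [checkStageB, checkStageV, Bool.and_eq_true, decide_eq_true_eq] at hb hv
  intro a
  match a with
  | 0 => exact rep_eEl 1
  | 1 => exact rep_eEl _
  | 2 => exact rep_cElt hb.1.1
  | _ + 3 => exact rep_dElt hv.1

/-- Every automorphism of J₁ is inner. -/
theorem aut_inner (φ : MulAut ↥Spor.J1) : φ ∈ (MulAut.conj : ↥Spor.J1 →* MulAut ↥Spor.J1).range := by
  obtain ⟨S, hS⟩ : ∃ S, S = (MulAut.conj : ↥Spor.J1 →* MulAut ↥Spor.J1).range := ⟨_, rfl⟩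
  rw [← hS]
  -- it suffices to treat a conjugate
  have step : ∀ (ψ : MulAut ↥Spor.J1) (g : ↥Spor.J1), MulAut.conj g * ψ ∈ S → ψ ∈ S :=
    fun ψ g h => by
      have hg : MulAut.conj g ∈ S := hS ▸ ⟨g, rfl⟩
      simpa using mul_mem (inv_mem hg) h
  have hgen := checkGen_true
  simp only [checkGen, Bool.and_eq_true, Bool.not_eq_true', List.all_eq_true, allLt_iff] at hgen
  obtain ⟨⟨⟨⟨⟨⟨⟨⟨⟨⟨⟨gB3, gAB⟩, gB1⟩, gu1⟩, gut⟩, gtu⟩, guu⟩, grel⟩, guv⟩, gX⟩, gY⟩, gE⟩ := hgen
  have hB0 : autB.getD 0 0 < 120 := by
    have h := checkStageB_true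
    simp only [checkStageB, Bool.and_eq_true, decide_eq_true_eq] at h
    exact h.1.1
  have hV : autV < 120 := by
    have h := checkStageV_true
    simp only [checkStageV, Bool.and_eq_true, decide_eq_true_eq] at h
    exact h.1
  -- stage one: the involution
  obtain ⟨g1, hg1⟩ := involution_conj (z := φ theInvolution)
    (by rw [MulEquiv.orderOf_eq, orderOf_theInvolution])
  refine step _ g1 ?_
  set φ1 := MulAut.conj g1 * φ with hφ1
  have t1 : φ1 theInvolution = theInvolution := by
    rw [hφ1, MulAut.mul_apply, MulAut.conj_apply, hg1]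
    group
  -- stage two: the second generator
  have cu : Commute theInvolution (φ1 (eEl autU)) := by
    have h : theInvolution * eEl autU = eEl autU * theInvolution :=
      Subtype.ext (((rep_eEl 1).mul (rep_eEl _)).eq ((rep_eEl _).mul (rep_eEl 1)) gtu)
    have := congrArg φ1 h
    rw [map_mul, map_mul, t1] at this
    exact this
  obtain ⟨n, hn, hu⟩ := exists_cElt cu
  have hU := checkStageU_true
  simp only [checkStageU, allLt_iff, Bool.or_eq_true, Bool.and_eq_true, decide_eq_true_eq,
    Bool.not_eq_true'] at hU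
  obtain ⟨q, hq, b, hb⟩ : ∃ q, q < 120 ∧ ∃ b, (b = autU ∨ b = autU2) ∧
      cElt q * cElt n = eEl b * cElt q := by
    rcases hU n hn with ((h | h) | h) | ⟨hl, h⟩
    · have e : φ1 (eEl autU) = 1 := hu.trans (Subtype.ext ((rep_cElt hn).eq rep_one h))
      rw [map_eq_one_iff φ1 φ1.injective] at e
      exact absurd (congrArg Subtype.val e) ((rep_eEl _).ne rep_one gu1)
    · have e : φ1 (eEl autU) = φ1 theInvolution := by
        rw [t1, hu]; exact Subtype.ext ((rep_cElt hn).eq (rep_eEl 1) h)
      exact absurd (congrArg Subtype.val (φ1.injective e)) ((rep_eEl _).ne (rep_eEl 1) gut)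
    · have e : eEl autU * eEl autU = 1 :=
        Subtype.ext (((rep_eEl _).mul (rep_eEl _)).eq rep_one guu)
      have e' := congrArg φ1 e
      rw [map_mul, map_one, hu] at e'
      exact absurd (congrArg Subtype.val e') (((rep_cElt hn).mul (rep_cElt hn)).ne rep_one h)
    · refine ⟨_, hl, _, ?_, Subtype.ext
        (((rep_cElt hl).mul (rep_cElt hn)).eq ((rep_eEl _).mul (rep_cElt hl)) h)⟩
      cases Nat.beq (autConjU.getD n (0, 0)).2 0
      · exact Or.inr rfl
      · exact Or.inl rfl
  refine step _ (cElt q) ?_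
  set φ2 := MulAut.conj (cElt q) * φ1 with hφ2
  have t2 : φ2 theInvolution = theInvolution := by
    rw [hφ2, MulAut.mul_apply, MulAut.conj_apply, t1, ← (commute_cElt q).eq, mul_inv_cancel_right]
  have u2 : φ2 (eEl autU) = eEl b := by
    rw [hφ2, MulAut.mul_apply, MulAut.conj_apply, hu, hb.2, mul_inv_cancel_right]
  -- stage three: the third generator
  have cB : Commute theInvolution (φ2 (cElt (autB.getD 0 0))) := by
    have := congrArg φ2 (commute_cElt (autB.getD 0 0)).eq
    rw [map_mul, map_mul, t2] at this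
    exact this
  obtain ⟨m, hm, hB⟩ := exists_cElt cB
  have hBc := checkStageB_true
  simp only [checkStageB, allLt_iff, Bool.or_eq_true, Bool.and_eq_true, decide_eq_true_eq,
    Bool.not_eq_true'] at hBc
  obtain ⟨-, hBc⟩ := hBc
  have hp3 : cElt m ^ 3 = 1 := by
    have e : cElt (autB.getD 0 0) ^ 3 = 1 := Subtype.ext (((rep_cElt hB0).pow 3).eq rep_one gB3)
    have e' := congrArg φ2 e
    rwa [map_pow, map_one, hB] at e'
  have hp5 : (eEl b * cElt m) ^ 5 = 1 := by
    have e : (eEl autU * cElt (autB.getD 0 0)) ^ 5 = 1 :=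
      Subtype.ext ((((rep_eEl _).mul (rep_cElt hB0)).pow 5).eq rep_one gAB)
    have e' := congrArg φ2 e
    rwa [map_pow, map_one, map_mul, u2, hB] at e'
  obtain ⟨d, hd, e, he, hbu, hde⟩ : ∃ d, d < 2 ∧ ∃ e, e < 8 ∧ b = autU ∧
      eEl e * cElt m = cElt (autB.getD d 0) * eEl e := by
    rcases hBc m hm with (h | h) | ⟨h1, h2⟩
    · have e : φ2 (cElt (autB.getD 0 0)) = 1 := hB.trans (Subtype.ext ((rep_cElt hm).eq rep_one h))
      rw [map_eq_one_iff φ2 φ2.injective] at e
      exact absurd (congrArg Subtype.val e) ((rep_cElt hB0).ne rep_one gB1)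
    · exact absurd (congrArg Subtype.val hp3) (((rep_cElt hm).pow 3).ne rep_one h)
    · rcases hb.1 with rfl | rfl
      · rcases h2 with h | ⟨⟨hd, he⟩, h⟩
        · exact absurd (congrArg Subtype.val hp5)
            ((((rep_eEl _).mul (rep_cElt hm)).pow 5).ne rep_one h)
        · refine ⟨_, hd, _, he, rfl, Subtype.ext (((rep_eEl _).mul (rep_cElt hm)).eq
            ((rep_cElt ?_).mul (rep_eEl _)) h)⟩
          have hl := checkStageB_true
          simp only [checkStageB, Bool.and_eq_true, decide_eq_true_eq] at hl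
          rcases (show (autConjB.getD m (0, 0)).1 = 0 ∨ (autConjB.getD m (0, 0)).1 = 1 by omega)
            with h0 | h0 <;> rw [h0]
          · exact hl.1.1
          · exact hl.1.2
      · exact absurd (congrArg Subtype.val hp5)
          ((((rep_eEl _).mul (rep_cElt hm)).pow 5).ne rep_one h1)
  subst hbu
  refine step _ (eEl e) ?_
  set φ3 := MulAut.conj (eEl e) * φ2 with hφ3
  have t3 : φ3 theInvolution = theInvolution := by
    have h : eEl e * theInvolution = theInvolution * eEl e :=
      Subtype.ext (((rep_eEl _).mul (rep_eEl 1)).eq ((rep_eEl 1).mul (rep_eEl _)) (gE e he).1)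
    rw [hφ3, MulAut.mul_apply, MulAut.conj_apply, t2, h, mul_inv_cancel_right]
  have u3 : φ3 (eEl autU) = eEl autU := by
    have h : eEl e * eEl autU = eEl autU * eEl e :=
      Subtype.ext (((rep_eEl _).mul (rep_eEl _)).eq ((rep_eEl _).mul (rep_eEl _)) (gE e he).2)
    rw [hφ3, MulAut.mul_apply, MulAut.conj_apply, u2, h, mul_inv_cancel_right]
  have b3 : φ3 (cElt (autB.getD 0 0)) = cElt (autB.getD d 0) := by
    rw [hφ3, MulAut.mul_apply, MulAut.conj_apply, hB, hde, mul_inv_cancel_right]
  -- stage four: the last generator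
  have cv : Commute (eEl autU) (φ3 (dElt autV)) := by
    have h : eEl autU * dElt autV = dElt autV * eEl autU :=
      Subtype.ext (((rep_eEl _).mul (rep_dElt hV)).eq ((rep_dElt hV).mul (rep_eEl _)) guv)
    have := congrArg φ3 h
    rw [map_mul, map_mul, u3] at this
    exact this
  obtain ⟨l, hl, hv⟩ := exists_dElt cv
  have hd' : autB.getD d 0 < 120 := by
    have h := checkStageB_true
    simp only [checkStageB, Bool.and_eq_true, decide_eq_true_eq] at h
    rcases (show d = 0 ∨ d = 1 by omega) with rfl | rfl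
    · exact h.1.1
    · exact h.1.2
  have himg : ∀ a, Rep ((φ3 (autGen a) : ↥Spor.J1) : GL (Fin 7) (ZMod 11))
      (autMat (cMat (autB.getD d 0)) (dMat l) a) := by
    intro a
    match a with
    | 0 => show Rep _ (eMat 1); rw [show autGen 0 = theInvolution from rfl, t3]; exact rep_eEl 1
    | 1 => show Rep _ (eMat autU); rw [show autGen 1 = eEl autU from rfl, u3]; exact rep_eEl _
    | 2 =>
      show Rep _ (cMat (autB.getD d 0))
      rw [show autGen 2 = cElt (autB.getD 0 0) from rfl, b3]
      exact rep_cElt hd'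
    | k + 3 =>
      show Rep _ (dMat l)
      rw [show autGen (k + 3) = dElt autV from rfl, hv]
      exact rep_dElt hl
  have hVc := checkStageV_true
  simp only [checkStageV, Bool.and_eq_true, allLt_iff, Bool.or_eq_true, List.any_eq_true,
    Bool.not_eq_true', decide_eq_true_eq] at hVc
  obtain ⟨hd0, hlv⟩ : d = 0 ∧ (dElt l = dElt autV ∨
      theInvolution * dElt l = dElt autV * theInvolution) := by
    rcases hVc.2 d hd l hl with ⟨w, hw, h⟩ | ⟨h0, h⟩
    · have e : wordVal autGen w = 1 :=
        Subtype.ext ((rep_wordVal rep_autGen w).eq rep_one (grel w hw))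
      have e' := congrArg φ3.toMonoidHom e
      rw [map_wordVal, map_one] at e'
      exact absurd (congrArg Subtype.val e') ((rep_wordVal himg w).ne rep_one h)
    · refine ⟨Nat.eq_of_beq_eq_true h0, ?_⟩
      rcases h with h | h
      · exact Or.inl (Subtype.ext ((rep_dElt hl).eq (rep_dElt hV) h))
      · exact Or.inr (Subtype.ext
          (((rep_eEl 1).mul (rep_dElt hl)).eq ((rep_dElt hV).mul (rep_eEl 1)) h))
  subst hd0
  -- the last conjugation
  obtain ⟨c, hc, hcv⟩ : ∃ c : ↥Spor.J1, (c = 1 ∨ c = theInvolution) ∧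
      c * φ3 (dElt autV) * c⁻¹ = dElt autV := by
    rcases hlv with h | h
    · exact ⟨1, Or.inl rfl, by rw [inv_one, one_mul, mul_one, hv, h]⟩
    · exact ⟨theInvolution, Or.inr rfl, by rw [hv, h, mul_inv_cancel_right]⟩
  refine step _ c ?_
  have key : MulAut.conj c * φ3 = 1 := by
    have ct : c * theInvolution = theInvolution * c := by rcases hc with rfl | rfl <;> simp
    have cu : c * eEl autU = eEl autU * c := by
      rcases hc with rfl | rfl
      · simp
      · exact Subtype.ext (((rep_eEl 1).mul (rep_eEl _)).eq ((rep_eEl _).mul (rep_eEl 1)) gtu)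
    have cb : c * cElt (autB.getD 0 0) = cElt (autB.getD 0 0) * c := by
      rcases hc with rfl | rfl
      · simp
      · exact (commute_cElt _).eq
    have hfix : ∀ a, (MulAut.conj c * φ3) (autGen a) = autGen a := by
      intro a
      rw [MulAut.mul_apply, MulAut.conj_apply]
      match a with
      | 0 =>
        show c * φ3 theInvolution * c⁻¹ = theInvolution
        rw [t3, ct, mul_inv_cancel_right]
      | 1 =>
        show c * φ3 (eEl autU) * c⁻¹ = eEl autU
        rw [u3, cu, mul_inv_cancel_right]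
      | 2 =>
        show c * φ3 (cElt (autB.getD 0 0)) * c⁻¹ = cElt (autB.getD 0 0)
        rw [b3, cb, mul_inv_cancel_right]
      | k + 3 => exact hcv
    have hword : ∀ w, (MulAut.conj c * φ3) (wordVal autGen w) = wordVal autGen w := by
      intro w
      induction w with
      | nil => exact map_one _
      | cons a w ih => rw [wordVal, map_mul, hfix, ih]
    refine MulEquiv.ext fun g => ?_
    obtain ⟨g, hg⟩ := g
    show (MulAut.conj c * φ3) _ = _
    induction hg using Subgroup.closure_induction with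
    | mem y hy =>
      rcases hy with rfl | rfl
      · have e : (⟨Spor.jankoX, Subgroup.subset_closure (Or.inl rfl)⟩ : ↥Spor.J1)
            = wordVal autGen autWordX :=
          Subtype.ext ((rep_wordVal rep_autGen _).eq rep_X gX).symm
        exact (congrArg _ e).trans ((hword _).trans e.symm)
      · have e : (⟨Spor.jankoY, Subgroup.subset_closure (Or.inr rfl)⟩ : ↥Spor.J1)
            = wordVal autGen autWordY :=
          Subtype.ext ((rep_wordVal rep_autGen _).eq rep_Y gY).symm
        exact (congrArg _ e).trans ((hword _).trans e.symm)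
    | one => exact map_one _
    | mul y z hy hz h1 h2 =>
      have h := map_mul (MulAut.conj c * φ3) (⟨y, hy⟩ : ↥Spor.J1) ⟨z, hz⟩
      rw [h1, h2] at h
      exact h
    | inv y hy h1 =>
      have h := map_inv (MulAut.conj c * φ3) (⟨y, hy⟩ : ↥Spor.J1)
      rw [h1] at h
      exact h
  rw [key]
  exact one_mem S

end CfsgLib.JankoOne
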