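import Cfsg.Agent.JankoOne.Centralizer

/-!
Generated certificate data: every automorphism of J₁ is inner.
-/

set_option autoImplicit false

namespace CfsgLib.JankoOne

/-- index of the second generator in the Sylow 2-subgroup -/
def autU : ℕ := 3

/-- index of the other class of involutions of the centraliser -/
def autU2 : ℕ := 2

/-- indices of the two choices of the third generator in the centraliser -/
def autB : List ℕ := [31, 32]

/-- index of the fourth generator in the centraliser of the second one -/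
def autV : ℕ := 1

/-- conjugators normalising involutions of the centraliser -/
def autConjU : List (ℕ × ℕ) :=
  [(0, 0), (16, 0), (0, 0), (0, 0), (0, 0), (0, 0), (0, 0), (0, 0), (0, 0), (0, 0), (0, 0), (0, 0), (0, 0), (10, 0), (6, 0), (0, 0), (0, 0), (0, 0), (0, 0), (0, 0), (0, 0), (0, 0), (0, 0), (13, 0), (3, 0), (0, 0), (0, 0), (0, 0), (0, 0), (0, 0), (0, 0), (0, 0), (0, 0), (0, 0), (0, 0), (0, 0), (0, 0), (0, 0), (0, 0), (0, 0), (0, 0), (0, 0), (0, 0), (7, 0), (12, 0), (0, 0), (11, 0), (8, 0), (1, 0), (4, 0), (0, 0), (0, 0), (0, 0), (0, 0), (0, 0), (0, 0), (0, 0), (2, 0), (18, 0), (5, 0), (0, 0), (16, 1), (0, 0), (0, 0), (0, 0), (0, 0), (0, 0), (0, 0), (0, 0), (0, 0), (0, 0), (0, 0), (0, 0), (10, 1), (6, 1), (0, 0), (0, 0), (0, 0), (0, 0), (0, 0), (0, 0), (0, 0), (0, 0), (13, 1), (3, 1), (0, 0), (0, 0), (0, 0), (0, 0), (0, 0), (0, 0), (0, 0), (0, 0), (0, 0), (0, 0), (0, 0),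 (0, 0), (0, 0), (0, 0), (0, 0), (0, 0), (0, 0), (0, 0), (7, 1), (12, 1), (0, 0), (11, 1), (8, 1), (1, 1), (4, 1), (0, 0), (0, 0), (0, 0), (0, 0), (0, 0), (0, 0), (0, 1), (2, 1), (18, 1), (5, 1)]

/-- conjugators normalising the third generator -/
def autConjB : List (ℕ × ℕ) :=
  [(0, 0), (0, 0), (0, 0), (0, 0), (0, 0), (0, 0), (0, 0), (0, 0), (0, 0), (0, 0), (0, 0), (0, 0), (0, 0), (0, 0), (0, 0), (0, 0), (0, 0), (0, 0), (0, 0), (0, 0), (0, 0), (0, 0), (0, 0), (0, 0), (0, 0), (0, 0), (0, 0), (0, 0), (0, 0), (0, 0), (0, 0), (0, 0), (1, 0), (1, 6), (0, 0), (0, 0), (0, 6), (0, 0), (1, 4), (1, 2), (0, 2), (0, 0), (0, 0), (0, 0), (0, 0), (0, 0), (0, 0), (0, 0), (0, 0), (0, 0), (0, 4), (0, 0), (0, 0), (0, 0), (0, 0), (0, 0), (0, 0), (0, 0), (0, 0), (0, 0), (0, 0), (0, 0), (0, 0), (0, 0), (0, 0), (0, 0), (0, 0), (0, 0), (0, 0), (0, 0), (0, 0), (0, 0), (0, 0), (0, 0), (0, 0), (0, 0), (0,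 0), (0, 0), (0, 0), (0, 0), (0, 0), (0, 0), (0, 0), (0, 0), (0, 0), (0, 0), (0, 0), (0, 0), (0, 0), (0, 0), (0, 0), (0, 0), (0, 0), (0, 0), (0, 0), (0, 0), (0, 0), (0, 0), (0, 0), (0, 0), (0, 0), (0, 0), (0, 0), (0, 0), (0, 0), (0, 0), (0, 0), (0, 0), (0, 0), (0, 0), (0, 0), (0, 0), (0, 0), (0, 0), (0, 0), (0, 0), (0, 0), (0, 0), (0, 0), (0, 0)]

/-- relations of the four generators -/
def autRels : List (List ℕ) :=
  [[2, 3, 2, 0, 3, 2, 3, 3, 2, 1, 2, 3, 2, 0, 3, 2, 3, 3, 2, 1, 2, 3, 2, 0, 3, 2, 3, 3, 2, 1, 2, 3, 2, 0, 3, 2, 3, 3, 2, 1, 2, 3, 2, 0, 3, 2, 3, 3, 2, 1], [3, 1, 0, 3, 1, 0, 3, 1, 0]]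

/-- `jankoX` as a word in the four generators -/
def autWordX : List ℕ := [0, 2, 1, 2, 2, 1, 2, 3, 2, 1, 3, 2, 2, 1, 3]

/-- `jankoY` as a word in the four generators -/
def autWordY : List ℕ := [1, 3, 0, 2, 2, 3, 2, 3, 2, 3, 0, 3]

end CfsgLib.JankoOne
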